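import Mathlib.Algebra.Homology.Embedding.CochainComplex
import Mathlib.Algebra.Homology.Homotopy
import Mathlib.CategoryTheory.Abelian.Basic
import Mathlib.CategoryTheory.Limits.Preserves.Shapes.Kernels

set_option autoImplicit false
universe w v u w'

open CategoryTheory CategoryTheory.Limits ZeroObject

namespace God49

variable {C : Type u} [Category.{v} C] [Abelian C]
variable (Go : C → C) (η : ∀ A, A ⟶ Go A) (F : CochainComplex C ℤ)

/-- One stage of the inductive construction of the resolution in degree `n`. -/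
structure State (n : ℤ) where
  R : C
  p : F.X n ⟶ R
  θ : ∀ j, n + 1 = j → (R ⟶ F.X j)
  θ_d : ∀ j k (h : n + 1 = j), j + 1 = k → θ j h ≫ F.d j k = 0

/-- The zero stage. -/
noncomputable def zeroState (n : ℤ) : State F n where
  R := 0
  p := 0
  θ _ _ := 0
  θ_d _ _ _ _ := zero_comp

/-- The relation between two consecutive stages. -/
def Next {i j : ℤ} (h : i + 1 = j) (s : State F i) (t : State F j) : Prop :=
  ∃ (π : (F.X j ⊞ Go s.R) ⟶ t.R) (w : biprod.lift (s.θ j h) (η s.R) ≫ π = 0),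
    Nonempty (IsColimit (CokernelCofork.ofπ π w)) ∧ biprod.inl ≫ π = t.p ∧
      ∀ k (h' : j + 1 = k), π ≫ t.θ k h' = -(biprod.fst ≫ F.d j k)

lemma exists_next {i : ℤ} (s : State F i) :
    ∃ t : State F (i + 1), Next Go η F rfl s t := by
  let φ := biprod.lift (s.θ (i + 1) rfl) (η s.R)
  have hφ : ∀ k, i + 1 + 1 = k → φ ≫ (-(biprod.fst ≫ F.d (i + 1) k)) = 0 := fun k hk => by
    rw [Preadditive.comp_neg, biprod.lift_fst_assoc, s.θ_d _ _ rfl hk, neg_zero]
  refine ⟨{ R := cokernel φ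
            p := biprod.inl ≫ cokernel.π φ
            θ := fun k hk => cokernel.desc φ _ (hφ k hk)
            θ_d := fun j k h h' => ?_ }, cokernel.π φ, cokernel.condition φ,
    ⟨cokernelIsCokernel φ⟩, rfl, fun k hk => cokernel.π_desc _ _ _⟩
  rw [← cancel_epi (cokernel.π φ), cokernel.π_desc_assoc, comp_zero]
  simp

/-- The zero stages below `a`, then the inductive construction. -/
lemma exists_states (hG : ∀ A, IsZero A → IsZero (Go A)) (a : ℤ) [F.IsStrictlyGE a] :
    ∃ s : ∀ n, State F n, (∀ n, n < a → IsZero (s n).R) ∧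
      ∀ (i j : ℤ) (h : i + 1 = j), Next Go η F h (s i) (s j) := by
  choose nx hnx using fun (x : Σ n, State F n) => exists_next Go η F x.2
  let it : ℕ → Σ n, State F n := fun k =>
    Nat.rec ⟨a - 1, zeroState F (a - 1)⟩ (fun _ x => ⟨x.1 + 1, nx x⟩) k
  have hit : ∀ k : ℕ, (it k).1 = a - 1 + (k : ℤ) := by
    intro k
    induction k with
    | zero => simp [it]
    | succ k ih => change (it k).1 + 1 = _; rw [ih]; omega
  have hex : ∀ n : ℤ, ∃ s : State F n, (n < a → IsZero s.R) ∧
      (a - 1 ≤ n → (⟨n, s⟩ : Σ n, State F n) = it (n - (a - 1)).toNat) := by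
    intro n
    by_cases hn : a - 1 ≤ n
    · obtain ⟨k, hk⟩ : ∃ k : ℕ, n = a - 1 + (k : ℤ) :=
        ⟨(n - (a - 1)).toNat, by omega⟩
      have e : (it k).1 = n := by rw [hit, hk]
      obtain ⟨m, s, hs⟩ : ∃ (m : ℤ) (s : State F m), it k = ⟨m, s⟩ := ⟨_, _, rfl⟩
      rw [hs] at e
      change m = n at e
      subst e
      refine ⟨s, fun hlt => ?_, fun _ => ?_⟩
      · have : k = 0 := by omega
        subst this
        have hs' : (⟨a - 1, zeroState F (a - 1)⟩ : Σ n, State F n) = ⟨m, s⟩ := hs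
        injection hs' with h1 h2
        subst h1
        cases h2
        exact isZero_zero C
      · rw [← hs]
        congr 1
        omega
    · exact ⟨zeroState F n, fun _ => isZero_zero C, fun h => absurd h hn⟩
  choose s hs0 hs using hex
  refine ⟨s, hs0, fun i j h => ?_⟩
  subst h
  by_cases hi : a - 1 ≤ i
  · have h1 := hs i hi
    have h2 := hs (i + 1) (by omega)
    rw [show (i + 1 - (a - 1)).toNat = (i - (a - 1)).toNat + 1 by omega] at h2
    change _ = (⟨_, nx (it _)⟩ : Σ n, State F n) at h2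
    rw [← h1] at h2
    injection h2 with _ h3
    rw [h3]
    exact hnx ⟨i, s i⟩
  · have hF : IsZero (F.X (i + 1)) := F.isZero_of_isStrictlyGE a (i + 1) (by omega)
    have hR : IsZero (s i).R := hs0 i (by omega)
    have hR' : IsZero (s (i + 1)).R := hs0 (i + 1) (by omega)
    have hB : IsZero (F.X (i + 1) ⊞ Go (s i).R) := by
      rw [IsZero.iff_id_eq_zero]
      apply biprod.hom_ext
      · exact hF.eq_of_tgt _ _
      · exact (hG _ hR).eq_of_tgt _ _
    refine ⟨0, comp_zero, ⟨?_⟩, hR'.eq_of_tgt _ _, fun k hk => hB.eq_of_src _ _⟩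
    exact CokernelCofork.IsColimit.ofπ _ _ (fun g _ => 0) (fun g _ => hB.eq_of_src _ _)
      (fun g _ m _ => hR'.eq_of_src _ _)

section

variable {F} {Go} {η} (s : ∀ n, State F n)
    (hs : ∀ (i j : ℤ) (h : i + 1 = j), Next Go η F h (s i) (s j))

/-- The projection onto the next stage. -/
noncomputable def π (i j : ℤ) (h : i + 1 = j) : (F.X j ⊞ Go (s i).R) ⟶ (s j).R := (hs i j h).choose

lemma π_w (i j : ℤ) (h : i + 1 = j) :
    biprod.lift ((s i).θ j h) (η (s i).R) ≫ π s hs i j h = 0 := (hs i j h).choose_spec.choose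

/-- The cokernel property of `π`. -/
noncomputable def isColimit_π (i j : ℤ) (h : i + 1 = j) :
    IsColimit (CokernelCofork.ofπ (π s hs i j h) (π_w s hs i j h)) :=
  (hs i j h).choose_spec.choose_spec.1.some

lemma inl_π (i j : ℤ) (h : i + 1 = j) : biprod.inl ≫ π s hs i j h = (s j).p :=
  (hs i j h).choose_spec.choose_spec.2.1

@[reassoc]
lemma π_θ (i j k : ℤ) (h : i + 1 = j) (h' : j + 1 = k) :
    π s hs i j h ≫ (s j).θ k h' = -(biprod.fst ≫ F.d j k) :=
  (hs i j h).choose_spec.choose_spec.2.2 k h'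

include hs in
@[reassoc]
lemma p_θ (j k : ℤ) (h' : j + 1 = k) : (s j).p ≫ (s j).θ k h' = -(F.d j k) := by
  rw [← inl_π s hs (j - 1) j (by omega), Category.assoc, π_θ]
  simp

/-- The differential of the resolution. -/
noncomputable def dG (i j : ℤ) : Go (s i).R ⟶ Go (s j).R :=
  if h : i + 1 = j then biprod.inr ≫ π s hs i j h ≫ η (s j).R else 0

lemma dG_eq (i j : ℤ) (h : i + 1 = j) :
    dG s hs i j = biprod.inr ≫ π s hs i j h ≫ η (s j).R := dif_pos h

/-- The resolution. -/
noncomputable def res : CochainComplex C ℤ where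
  X n := Go (s n).R
  d := dG s hs
  shape i j h := dif_neg h
  d_comp_d' i j k (h : i + 1 = j) (h' : j + 1 = k) := by
    have h1 : η (s j).R ≫ biprod.inr = biprod.lift ((s j).θ k h') (η (s j).R) -
        (s j).θ k h' ≫ biprod.inl := by
      apply biprod.hom_ext <;> simp
    rw [dG_eq s hs i j h, dG_eq s hs j k h']
    simp only [Category.assoc]
    rw [reassoc_of% h1, Preadditive.sub_comp, reassoc_of% (π_w s hs j k h'),
      Category.assoc, zero_comp, zero_sub, Preadditive.comp_neg, Preadditive.comp_neg, π_θ_assoc]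
    simp

/-- The comparison map. -/
noncomputable def toRes : F ⟶ res s hs where
  f n := (s n).p ≫ η (s n).R
  comm' i j (h : i + 1 = j) := by
    change ((s i).p ≫ η (s i).R) ≫ dG s hs i j = F.d i j ≫ ((s j).p ≫ η (s j).R)
    have h1 : η (s i).R ≫ biprod.inr = biprod.lift ((s i).θ j h) (η (s i).R) -
        (s i).θ j h ≫ biprod.inl := by
      apply biprod.hom_ext <;> simp
    rw [dG_eq s hs i j h]
    simp only [Category.assoc]
    rw [reassoc_of% h1, Preadditive.sub_comp, reassoc_of% (π_w s hs i j h),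
      Category.assoc, zero_comp, zero_sub, Preadditive.comp_neg, p_θ_assoc s hs,
      ← inl_π s hs i j h]
    simp

variable {D : Type w} [Category.{w'} D] [Preadditive D] (Φ : C ⥤ D) [Φ.Additive]
  [∀ {X Y : C} (f : X ⟶ Y), PreservesColimit (parallelPair f 0) Φ]
  (r : ∀ A, Φ.obj (Go A) ⟶ Φ.obj A) (hr : ∀ A, Φ.map (η A) ≫ r A = 𝟙 _)

include hs in
lemma hom_ext_π (i j : ℤ) (h : i + 1 = j) {T : D} {f g : Φ.obj (s j).R ⟶ T}
    (e : Φ.map (π s hs i j h) ≫ f = Φ.map (π s hs i j h) ≫ g) : f = g :=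
  Cofork.IsColimit.hom_ext (CokernelCofork.mapIsColimit _ (isColimit_π s hs i j h) Φ) e

include hs hr in
lemma exists_u (j : ℤ) : ∃ u : Φ.obj (s j).R ⟶ Φ.obj (F.X j), ∀ (i : ℤ) (h : i + 1 = j),
    Φ.map (π s hs i j h) ≫ u =
      Φ.map biprod.fst - Φ.map biprod.snd ≫ r _ ≫ Φ.map ((s i).θ j h) := by
  obtain ⟨i, rfl⟩ : ∃ i, j = i + 1 := ⟨j - 1, by omega⟩
  let hc := CokernelCofork.mapIsColimit _ (isColimit_π s hs i (i + 1) rfl) Φ
  refine ⟨(CokernelCofork.IsColimit.desc' hc
      (Φ.map biprod.fst - Φ.map biprod.snd ≫ r _ ≫ Φ.map ((s i).θ (i + 1) rfl)) ?_).1,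
    fun i' h => ?_⟩
  · change Φ.map _ ≫ _ = 0
    rw [Preadditive.comp_sub, ← Φ.map_comp, ← Φ.map_comp_assoc, biprod.lift_fst,
      biprod.lift_snd, reassoc_of% hr, sub_self]
  · obtain rfl : i' = i := by omega
    exact (CokernelCofork.IsColimit.desc' hc _ _).2

include hs hr in
lemma exists_v (i j : ℤ) (h : i + 1 = j) : ∃ v : Φ.obj (s j).R ⟶ Φ.obj (Go (s i).R),
    Φ.map (π s hs i j h) ≫ v =
      Φ.map biprod.snd ≫ (𝟙 _ - r _ ≫ Φ.map (η (s i).R)) := by
  let hc := CokernelCofork.mapIsColimit _ (isColimit_π s hs i j h) Φ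
  refine ⟨(CokernelCofork.IsColimit.desc' hc
      (Φ.map biprod.snd ≫ (𝟙 _ - r _ ≫ Φ.map (η (s i).R))) ?_).1,
    (CokernelCofork.IsColimit.desc' hc _ _).2⟩
  change Φ.map _ ≫ _ = 0
  rw [← Φ.map_comp_assoc, biprod.lift_snd, Preadditive.comp_sub, reassoc_of% hr,
    Category.comp_id, sub_self]

include hr in
lemma exists_homotopyEquiv :
    ∃ e : HomotopyEquiv ((Φ.mapHomologicalComplex _).obj F)
        ((Φ.mapHomologicalComplex _).obj (res s hs)),
      e.hom = (Φ.mapHomologicalComplex _).map (toRes s hs) := by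
  choose u hu using exists_u s hs Φ r hr
  choose v hv using exists_v s hs Φ r hr
  have hπ : ∀ (i j : ℤ) (h : i + 1 = j) {T : D} (f : Φ.obj (F.X j ⊞ Go (s i).R) ⟶ T),
      f = Φ.map biprod.fst ≫ Φ.map biprod.inl ≫ f + Φ.map biprod.snd ≫ Φ.map biprod.inr ≫ f :=
    fun i j h T f => by
      rw [← Φ.map_comp_assoc, ← Φ.map_comp_assoc, ← Preadditive.add_comp, ← Φ.map_add,
        biprod.total, Φ.map_id, Category.id_comp]
  have hpu : ∀ j, Φ.map (s j).p ≫ u j = 𝟙 _ := fun j => by
    rw [← inl_π s hs (j - 1) j (by omega), Φ.map_comp_assoc, hu j (j - 1) (by omega),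
      Preadditive.comp_sub, ← Φ.map_comp, ← Φ.map_comp_assoc, biprod.inl_fst, biprod.inl_snd]
    simp
  have hru : ∀ (i j : ℤ) (h : i + 1 = j),
      Φ.map biprod.inr ≫ Φ.map (π s hs i j h) ≫ u j = -(r _ ≫ Φ.map ((s i).θ j h)) :=
    fun i j h => by
      rw [hu j i h, Preadditive.comp_sub, ← Φ.map_comp, ← Φ.map_comp_assoc, biprod.inr_fst,
        biprod.inr_snd]
      simp
  have hud : ∀ (j k : ℤ) (h : j + 1 = k),
      u j ≫ Φ.map (F.d j k) = -Φ.map ((s j).θ k h) := fun j k h => by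
    apply hom_ext_π s hs Φ (j - 1) j (by omega)
    rw [reassoc_of% (hu j (j - 1) (by omega)), Preadditive.comp_neg, ← Φ.map_comp, π_θ,
      Preadditive.sub_comp, Category.assoc, Category.assoc]
    simp only [← Φ.map_comp, (s (j - 1)).θ_d j k (by omega) h, Φ.map_neg, neg_neg,
      Functor.map_zero, comp_zero, sub_zero]
  let g : (Φ.mapHomologicalComplex _).obj (res s hs) ⟶ (Φ.mapHomologicalComplex _).obj F :=
    { f := fun n => r (s n).R ≫ u n
      comm' := fun i j (h : i + 1 = j) => by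
        change (r _ ≫ u i) ≫ Φ.map (F.d i j) = Φ.map (dG s hs i j) ≫ r _ ≫ u j
        rw [dG_eq s hs i j h, Category.assoc, hud i j h, Φ.map_comp, Φ.map_comp,
          Category.assoc, Category.assoc, reassoc_of% hr, hru i j h, Preadditive.comp_neg] }
  let hm : ∀ j i, ((Φ.mapHomologicalComplex _).obj (res s hs)).X j ⟶
      ((Φ.mapHomologicalComplex _).obj (res s hs)).X i :=
    fun j i => if h : i + 1 = j then -(r (s j).R ≫ v i j h) else 0
  refine ⟨{ hom := (Φ.mapHomologicalComplex _).map (toRes s hs)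
            inv := g
            homotopyHomInvId := Homotopy.ofEq ?_
            homotopyInvHomId :=
              { hom := hm
                zero := fun j i h => dif_neg h
                comm := ?_ } }, rfl⟩
  · ext n
    change Φ.map ((s n).p ≫ η (s n).R) ≫ r _ ≫ u n = 𝟙 _
    rw [Φ.map_comp, Category.assoc, reassoc_of% hr, hpu]
  · intro n
    rw [dNext_eq hm (show (ComplexShape.up ℤ).Rel n (n + 1) from rfl),
      prevD_eq hm (show (ComplexShape.up ℤ).Rel (n - 1) n from (by change n - 1 + 1 = n; omega))]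
    have hh : n - 1 + 1 = n := by omega
    have hm1 : hm (n + 1) n = -(r (s (n + 1)).R ≫ v n (n + 1) rfl) := dif_pos rfl
    have hm2 : hm n (n - 1) = -(r (s n).R ≫ v (n - 1) n hh) := dif_pos hh
    rw [hm1, hm2]
    suffices key : (r _ ≫ u n) ≫ Φ.map ((s n).p ≫ η (s n).R) =
        Φ.map (dG s hs n (n + 1)) ≫ (-(r (s (n + 1)).R ≫ v n (n + 1) rfl)) +
          (-(r (s n).R ≫ v (n - 1) n hh)) ≫ Φ.map (dG s hs (n - 1) n) +
          𝟙 (Φ.obj (Go (s n).R)) from key
    simp only [dG_eq s hs n (n + 1) rfl, dG_eq s hs (n - 1) n hh,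
      Φ.map_comp, Category.assoc, Preadditive.comp_neg, Preadditive.neg_comp, reassoc_of% hr]
    have h1 : Φ.map biprod.inr ≫ Φ.map (π s hs n (n + 1) rfl) ≫ v n (n + 1) rfl =
        𝟙 _ - r _ ≫ Φ.map (η (s n).R) := by
      rw [hv, ← Φ.map_comp_assoc, biprod.inr_snd]
      simp
    have h2 : u n ≫ Φ.map (s n).p +
        v (n - 1) n hh ≫ Φ.map biprod.inr ≫ Φ.map (π s hs (n - 1) n hh) = 𝟙 _ := by
      apply hom_ext_π s hs Φ (n - 1) n hh
      conv_rhs => rw [Category.comp_id, hπ _ _ hh (Φ.map (π s hs (n - 1) n hh))]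
      rw [Preadditive.comp_add, reassoc_of% (hu n (n - 1) hh), reassoc_of% (hv (n - 1) n hh),
        ← inl_π s hs (n - 1) n hh, Φ.map_comp]
      have h3 : r _ ≫ Φ.map (η (s (n - 1)).R) ≫ Φ.map biprod.inr ≫ Φ.map (π s hs (n - 1) n hh) +
          r _ ≫ Φ.map ((s (n - 1)).θ n hh) ≫ Φ.map biprod.inl ≫ Φ.map (π s hs (n - 1) n hh)
          = 0 := by
        rw [← Preadditive.comp_add, ← Φ.map_comp, ← Φ.map_comp, ← Φ.map_comp, ← Φ.map_comp,
          ← Φ.map_add, ← Category.assoc, ← Category.assoc, ← Preadditive.add_comp]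
        rw [show η (s (n - 1)).R ≫ biprod.inr + (s (n - 1)).θ n hh ≫ biprod.inl =
          biprod.lift ((s (n - 1)).θ n hh) (η (s (n - 1)).R) by apply biprod.hom_ext <;> simp,
          π_w]
        simp
      simp only [Preadditive.sub_comp, Category.assoc, Category.id_comp,
        Preadditive.comp_sub]
      have h4 := congrArg (fun t => Φ.map (biprod.snd : F.X n ⊞ Go (s (n - 1)).R ⟶ _) ≫ t) h3
      simp only [Preadditive.comp_add, comp_zero] at h4
      rw [← sub_eq_zero]
      rw [← neg_eq_zero] at h4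
      convert h4 using 1
      abel
    rw [h1]
    have h2' := congrArg (fun t => r (s n).R ≫ t ≫ Φ.map (η (s n).R)) h2
    simp only [Preadditive.add_comp, Preadditive.comp_add, Category.assoc, Category.id_comp] at h2'
    rw [← h2']
    abel

end

end God49
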