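import Groth.Prelude.Def_CohCx
import Groth.Agent.God49.Abstract
import Groth.Agent.TopCoh49.Basic2
import Mathlib.Topology.Sheaves.Abelian
import Mathlib.Topology.Sheaves.Skyscraper
import Mathlib.Algebra.Homology.QuasiIso
import Mathlib.Algebra.Homology.HomotopyCategory

set_option autoImplicit false
universe u

open CategoryTheory CategoryTheory.Limits TopologicalSpace Opposite

namespace God49

variable {X : TopCat.{u}}

/-- The sheaf of arbitrary families of germs. -/
noncomputable def fam (A : CohTop.Ab X) : CohTop.Ab X :=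
  ⟨Groth.Agent.TopCoh49.piPre X fun x => CohTop.stalk A x,
    Groth.Agent.TopCoh49.isSheaf_piPre X _⟩

/-- The map sending a section to its family of germs. -/
noncomputable def toFam (A : CohTop.Ab X) : A ⟶ fam A :=
  ⟨{ app := fun U => AddCommGrpCat.ofHom
      { toFun := fun s x => TopCat.Presheaf.germ A.obj U.unop _ x.2 s
        map_zero' := funext fun x => map_zero _
        map_add' := fun a b => funext fun x => map_add _ a b }
     naturality := fun U V i => by
      ext s
      funext x
      exact TopCat.Presheaf.germ_res_apply A.obj i.unop _ x.2 s }⟩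

lemma isFlasque_fam (A : CohTop.Ab X) : TopCat.Sheaf.IsFlasque (fam A) where
  epi {U V} i := by
    rw [AddCommGrpCat.epi_iff_surjective]
    intro s
    obtain ⟨U⟩ := U
    obtain ⟨V⟩ := V
    classical
    refine ⟨fun x => if h : x.1 ∈ V then s ⟨x.1, h⟩ else 0, funext fun x => ?_⟩
    exact dif_pos x.2

lemma isZero_fam {A : CohTop.Ab X} (hA : IsZero A) : IsZero (fam A) := by
  have h : ∀ x : X, IsZero (CohTop.stalk A x) := fun x =>
    (TopCat.Sheaf.forget AddCommGrpCat.{u} X ⋙
      TopCat.Presheaf.stalkFunctor AddCommGrpCat.{u} x).map_isZero hA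
  rw [IsZero.iff_id_eq_zero]
  apply CategoryTheory.Sheaf.hom_ext
  ext U s
  funext x
  have := AddCommGrpCat.subsingleton_of_isZero (h x.1)
  exact Subsingleton.elim _ _

/-- Evaluation of a family at the point of the stalk. -/
noncomputable def evalFam (A : CohTop.Ab X) (x : X) :
    TopCat.Presheaf.stalk (C := AddCommGrpCat.{u}) (X := X) (fam A).obj x ⟶ CohTop.stalk A x :=
  colimit.desc ((OpenNhds.inclusion x).op ⋙ (fam A).obj)
    { pt := CohTop.stalk A x
      ι :=
        { app := fun U => AddCommGrpCat.ofHom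
            { toFun := fun s => s ⟨x, U.unop.2⟩
              map_zero' := rfl
              map_add' := fun _ _ => rfl }
          naturality := fun U V i => by ext s; rfl } }

lemma toFam_evalFam (A : CohTop.Ab X) (x : X) :
    (TopCat.Presheaf.stalkFunctor AddCommGrpCat.{u} x).map (toFam A).hom ≫ evalFam A x = 𝟙 _ := by
  apply TopCat.Presheaf.stalk_hom_ext
  intro U hx
  refine (TopCat.Presheaf.stalkFunctor_map_germ_assoc U x hx (toFam A).hom _).trans ?_
  refine (congrArg (fun t => (toFam A).hom.app (op U) ≫ t)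
    (show TopCat.Presheaf.germ (fam A).obj U x hx ≫ evalFam A x = _ from colimit.ι_desc _ _)).trans ?_
  refine Eq.trans ?_ (Category.comp_id _).symm
  rfl

theorem exists_resolution (F : CochainComplex (CohTop.Ab X) ℤ) (a : ℤ) [F.IsStrictlyGE a] :
    ∃ (G : CochainComplex (CohTop.Ab X) ℤ) (φ : F ⟶ G), G.IsStrictlyGE a ∧ QuasiIso φ ∧
      (∀ n : ℤ, TopCat.Sheaf.IsFlasque (G.X n)) ∧
      ∀ x : X, ∃ e : HomotopyEquiv ((CohCx.stalkCx x).obj F) ((CohCx.stalkCx x).obj G),
        e.hom = (CohCx.stalkCx x).map φ := by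
  obtain ⟨s, hs0, hs⟩ := exists_states fam toFam F (fun _ h => isZero_fam h) a
  have he : ∀ x : X, ∃ e : HomotopyEquiv ((CohCx.stalkCx x).obj F)
      ((CohCx.stalkCx x).obj (res s hs)), e.hom = (CohCx.stalkCx x).map (toRes s hs) := by
    intro x
    let Φ : CohTop.Ab X ⥤ AddCommGrpCat.{u} :=
      sheafToPresheaf (Opens.grothendieckTopology X) AddCommGrpCat.{u} ⋙
        TopCat.Presheaf.stalkFunctor AddCommGrpCat.{u} x
    haveI : Φ.IsLeftAdjoint := inferInstanceAs
      (TopCat.Sheaf.forget AddCommGrpCat.{u} X ⋙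
        TopCat.Presheaf.stalkFunctor AddCommGrpCat.{u} x).IsLeftAdjoint
    haveI : PreservesColimitsOfSize.{0, 0} Φ := inferInstance
    haveI : PreservesBinaryBiproducts Φ :=
      preservesBinaryBiproducts_of_preservesBinaryCoproducts Φ
    haveI : Φ.Additive := Functor.additive_of_preservesBinaryBiproducts Φ
    exact exists_homotopyEquiv s hs Φ (fun A => evalFam A x) (fun A => toFam_evalFam A x)
  refine ⟨res s hs, toRes s hs, ?_, ?_, fun n => isFlasque_fam _, he⟩
  · rw [CochainComplex.isStrictlyGE_iff]
    exact fun i hi => isZero_fam (hs0 i hi)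
  · rw [quasiIso_iff]
    intro n
    rw [quasiIsoAt_iff_isIso_homologyMap]
    have : ∀ x : X, IsIso ((TopCat.Presheaf.stalkFunctor AddCommGrpCat.{u} x).map
        (HomologicalComplex.homologyMap (toRes s hs) n).hom) := by
      intro x
      obtain ⟨e, he'⟩ := he x
      let Φ : CohTop.Ab X ⥤ AddCommGrpCat.{u} :=
        sheafToPresheaf (Opens.grothendieckTopology X) AddCommGrpCat.{u} ⋙
          TopCat.Presheaf.stalkFunctor AddCommGrpCat.{u} x
      haveI : PreservesFiniteLimits Φ := inferInstanceAs (PreservesFiniteLimits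
        (TopCat.Sheaf.forget AddCommGrpCat.{u} X ⋙
          TopCat.Presheaf.stalkFunctor AddCommGrpCat.{u} x))
      haveI : Φ.IsLeftAdjoint := inferInstanceAs
        (TopCat.Sheaf.forget AddCommGrpCat.{u} X ⋙
          TopCat.Presheaf.stalkFunctor AddCommGrpCat.{u} x).IsLeftAdjoint
      haveI : PreservesFiniteColimits Φ := inferInstance
      haveI : PreservesBinaryBiproducts Φ :=
        preservesBinaryBiproducts_of_preservesBinaryCoproducts Φ
      haveI : Φ.Additive := Functor.additive_of_preservesBinaryBiproducts Φ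
      haveI : Φ.PreservesHomology := inferInstance
      have h2 : IsIso (HomologicalComplex.homologyMap
          ((Φ.mapHomologicalComplex (ComplexShape.up ℤ)).map (toRes s hs)) n) := by
        rw [← show e.hom = (Φ.mapHomologicalComplex _).map (toRes s hs) from he']
        exact (e.toHomologyIso n).isIso_hom
      have h3 : IsIso ((Φ.mapShortComplex ⋙ ShortComplex.homologyFunctor AddCommGrpCat.{u}).map
          ((HomologicalComplex.shortComplexFunctor (CohTop.Ab X) (ComplexShape.up ℤ) n).map
            (toRes s hs))) := h2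
      exact (NatIso.isIso_map_iff (ShortComplex.homologyFunctorIso Φ) _).1 h3
    exact @TopCat.Presheaf.isIso_of_stalkFunctor_map_iso _ _ _ _ _ _ _ _ _ _ _ _ _ _
      (HomologicalComplex.homologyMap (toRes s hs) n) this

end God49
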